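import Groth.Agent.ASt.DiagSq
import Groth.Agent.ASt.ProdMap
/-!
The diagonal of a fibre product of two functors: its fibres are fibre products of fibres of the two diagonals.
-/

set_option backward.isDefEq.respectTransparency false
set_option backward.isDefEq.respectTransparency.types false
set_option linter.unusedSectionVars false
set_option linter.style.haveILetI false

universe u

open CategoryTheory CategoryTheory.Limits AlgebraicGeometry Opposite

namespace Groth.Agent.FpDiagLib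

open _root_.AlgSp Groth.Agent.ASp Groth.Agent.ASt

variable {S : Scheme.{u}} {𝒳 𝒳' 𝒴 𝒴' 𝒵 : AlgSt.Cat S} [h₁ : FibCat.IsFibGrpd 𝒳.p] [h₂ : FibCat.IsFibGrpd 𝒳'.p]
  [h₃ : FibCat.IsFibGrpd 𝒴.p] [h₄ : FibCat.IsFibGrpd 𝒴'.p] [h₅ : FibCat.IsFibGrpd 𝒵.p]
variable (p' : 𝒳' ⥤ᵇ 𝒵) (q' : 𝒴' ⥤ᵇ 𝒵) (f : 𝒳 ⥤ᵇ 𝒳') (g : 𝒴 ⥤ᵇ 𝒴')
  (e : BasedFunctor.comp (BasedFunctor.comp (FibCat.fpFst (BasedFunctor.comp f p') (BasedFunctor.comp g q')) f) p' ≅
      BasedFunctor.comp (BasedFunctor.comp (FibCat.fpSnd (BasedFunctor.comp f p') (BasedFunctor.comp g q')) g) q')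

/-- The induced functor of fibre products. -/
noncomputable abbrev fpMap : FibCat.fp (BasedFunctor.comp f p') (BasedFunctor.comp g q') ⥤ᵇ FibCat.fp p' q' :=
  FibCat.fpLift (BasedFunctor.comp (FibCat.fpFst (BasedFunctor.comp f p') (BasedFunctor.comp g q')) f)
    (BasedFunctor.comp (FibCat.fpSnd (BasedFunctor.comp f p') (BasedFunctor.comp g q')) g) e

/-- The first components of a pair. -/
noncomputable def jFst : FibCat.fp (fpMap p' q' f g e) (fpMap p' q' f g e) ⥤ᵇ FibCat.fp f f :=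
  FibCat.fpLift (BasedFunctor.comp (FibCat.fpFst (fpMap p' q' f g e) (fpMap p' q' f g e)) (FibCat.fpFst _ _))
    (BasedFunctor.comp (FibCat.fpSnd (fpMap p' q' f g e) (fpMap p' q' f g e)) (FibCat.fpFst _ _))
    (wR (FibCat.fpIso (fpMap p' q' f g e) (fpMap p' q' f g e)) (FibCat.fpFst p' q'))

/-- The second components of a pair. -/
noncomputable def jSnd : FibCat.fp (fpMap p' q' f g e) (fpMap p' q' f g e) ⥤ᵇ FibCat.fp g g :=
  FibCat.fpLift (BasedFunctor.comp (FibCat.fpFst (fpMap p' q' f g e) (fpMap p' q' f g e)) (FibCat.fpSnd _ _))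
    (BasedFunctor.comp (FibCat.fpSnd (fpMap p' q' f g e) (fpMap p' q' f g e)) (FibCat.fpSnd _ _))
    (wR (FibCat.fpIso (fpMap p' q' f g e) (fpMap p' q' f g e)) (FibCat.fpSnd p' q'))

noncomputable def tauFst : BasedFunctor.comp (FibCat.diag (fpMap p' q' f g e)) (jFst p' q' f g e) ≅
    BasedFunctor.comp (FibCat.fpFst (BasedFunctor.comp f p') (BasedFunctor.comp g q')) (FibCat.diag f) :=
  fpIsoMk (Iso.refl _) (Iso.refl _) fun x => by
    change f.map (𝟙 x.obj.fst) ≫ 𝟙 (f.obj x.obj.fst) = 𝟙 (f.obj x.obj.fst) ≫ f.map (𝟙 x.obj.fst)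
    simp

noncomputable def tauSnd : BasedFunctor.comp (FibCat.diag (fpMap p' q' f g e)) (jSnd p' q' f g e) ≅
    BasedFunctor.comp (FibCat.fpSnd (BasedFunctor.comp f p') (BasedFunctor.comp g q')) (FibCat.diag g) :=
  fpIsoMk (Iso.refl _) (Iso.refl _) fun x => by
    change g.map (𝟙 x.obj.snd) ≫ 𝟙 (g.obj x.obj.snd) = 𝟙 (g.obj x.obj.snd) ≫ g.map (𝟙 x.obj.snd)
    simp

variable {U : Over S} (w : FibCat.overCat U ⥤ᵇ FibCat.fp (fpMap p' q' f g e) (fpMap p' q' f g e))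

/-- The fibre of the diagonal mapped to that of the diagonal of the first functor. -/
noncomputable def dFst : FibCat.fp w (FibCat.diag (fpMap p' q' f g e)) ⥤ᵇ
    FibCat.fp (BasedFunctor.comp w (jFst p' q' f g e)) (FibCat.diag f) :=
  FibCat.fpLift (FibCat.fpFst w _)
    (BasedFunctor.comp (FibCat.fpSnd w _) (FibCat.fpFst (BasedFunctor.comp f p') (BasedFunctor.comp g q')))
    (wR (FibCat.fpIso w (FibCat.diag (fpMap p' q' f g e))) (jFst p' q' f g e) ≪≫
      wL (FibCat.fpSnd w (FibCat.diag (fpMap p' q' f g e))) (tauFst p' q' f g e))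

/-- The fibre of the diagonal mapped to that of the diagonal of the second functor. -/
noncomputable def dSnd : FibCat.fp w (FibCat.diag (fpMap p' q' f g e)) ⥤ᵇ
    FibCat.fp (BasedFunctor.comp w (jSnd p' q' f g e)) (FibCat.diag g) :=
  FibCat.fpLift (FibCat.fpFst w _)
    (BasedFunctor.comp (FibCat.fpSnd w _) (FibCat.fpSnd (BasedFunctor.comp f p') (BasedFunctor.comp g q')))
    (wR (FibCat.fpIso w (FibCat.diag (fpMap p' q' f g e))) (jSnd p' q' f g e) ≪≫
      wL (FibCat.fpSnd w (FibCat.diag (fpMap p' q' f g e))) (tauSnd p' q' f g e))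

variable {T : Over S} {k : T ⟶ U}

theorem dVert_fst {v} (h : DVert w k v) :
    DVert (g := f) (BasedFunctor.comp w (jFst p' q' f g e)) k v.hom.fst :=
  ⟨h.map, congrArg (fun m => m.hom.fst) h.comp⟩

theorem dVert_snd {v} (h : DVert w k v) :
    DVert (g := g) (BasedFunctor.comp w (jSnd p' q' f g e)) k v.hom.snd := by
  constructor
  · have h1 : 𝒳.p.map v.hom.fst = eqToHom _ := h.map
    change 𝒴.p.map v.hom.snd = _
    rw [fp_map_snd, h1]
    simp
  · exact congrArg (fun m => m.hom.snd) h.comp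

theorem clF_dFst {v} (h : DVert w k v) :
    clF (dFst p' q' f g e w) T (diagEl w h) =
      diagEl (BasedFunctor.comp w (jFst p' q' f g e)) (dVert_fst p' q' f g e w h) :=
  cl_eq_iff.2 ⟨fpHomMk (𝟙 _) (𝟙 _) (by
    have e1 : (BasedFunctor.comp w (jFst p' q' f g e)).map (𝟙 (ov k)) = 𝟙 ((jFst p' q' f g e).obj (w.obj (ov k))) :=
      (BasedFunctor.comp w (jFst p' q' f g e)).toFunctor.map_id _
    have e2 : (FibCat.diag f).map (𝟙 (w.obj (ov k)).obj.snd.obj.fst) = 𝟙 _ := (FibCat.diag f).toFunctor.map_id _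
    change (BasedFunctor.comp w (jFst p' q' f g e)).map (𝟙 (ov k)) ≫
        dHom (BasedFunctor.comp w (jFst p' q' f g e)) (dVert_fst p' q' f g e w h) =
      ((jFst p' q' f g e).map (dHom w h) ≫ (tauFst p' q' f g e).hom.toNatTrans.app (w.obj (ov k)).obj.snd) ≫
        (FibCat.diag f).map (𝟙 (w.obj (ov k)).obj.snd.obj.fst)
    refine Eq.trans ?_ ((congrArg (fun r => _ ≫ r) e2).trans (Category.comp_id _)).symm
    refine ((congrArg (fun r => r ≫ _) e1).trans (Category.id_comp _)).trans ?_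
    exact fp_hom_ext (Category.comp_id v.hom.fst).symm (Category.comp_id (𝟙 (w.obj (ov k)).obj.snd.obj.fst)).symm),
    ((FibCat.overCat U).p.map_id _).trans rfl⟩

theorem clF_dSnd {v} (h : DVert w k v) :
    clF (dSnd p' q' f g e w) T (diagEl w h) =
      diagEl (BasedFunctor.comp w (jSnd p' q' f g e)) (dVert_snd p' q' f g e w h) :=
  cl_eq_iff.2 ⟨fpHomMk (𝟙 _) (𝟙 _) (by
    have e1 : (BasedFunctor.comp w (jSnd p' q' f g e)).map (𝟙 (ov k)) = 𝟙 ((jSnd p' q' f g e).obj (w.obj (ov k))) :=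
      (BasedFunctor.comp w (jSnd p' q' f g e)).toFunctor.map_id _
    have e2 : (FibCat.diag g).map (𝟙 (w.obj (ov k)).obj.snd.obj.snd) = 𝟙 _ := (FibCat.diag g).toFunctor.map_id _
    change (BasedFunctor.comp w (jSnd p' q' f g e)).map (𝟙 (ov k)) ≫
        dHom (BasedFunctor.comp w (jSnd p' q' f g e)) (dVert_snd p' q' f g e w h) =
      ((jSnd p' q' f g e).map (dHom w h) ≫ (tauSnd p' q' f g e).hom.toNatTrans.app (w.obj (ov k)).obj.snd) ≫
        (FibCat.diag g).map (𝟙 (w.obj (ov k)).obj.snd.obj.snd)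
    refine Eq.trans ?_ ((congrArg (fun r => _ ≫ r) e2).trans (Category.comp_id _)).symm
    refine ((congrArg (fun r => r ≫ _) e1).trans (Category.id_comp _)).trans ?_
    exact fp_hom_ext (Category.comp_id v.hom.snd).symm (Category.comp_id (𝟙 (w.obj (ov k)).obj.snd.obj.snd)).symm),
    ((FibCat.overCat U).p.map_id _).trans rfl⟩

omit k T in
theorem isPullback_dFst_dSnd (he : ∀ x, e.hom.toNatTrans.app x = x.obj.iso.hom)
    [FibCat.IsFibGrpd (FibCat.fp w (FibCat.diag (fpMap p' q' f g e))).p] :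
    IsPullback (clFun (dFst p' q' f g e w)) (clFun (dSnd p' q' f g e w))
      (fibπ (BasedFunctor.comp w (jFst p' q' f g e)) (FibCat.diag f))
      (fibπ (BasedFunctor.comp w (jSnd p' q' f g e)) (FibCat.diag g)) := by
  refine isPullback_of_pointwise ?_ (fun T a a' e1 e2 => ?_) (fun T b d h => ?_)
  · ext T c
    obtain ⟨m, hm, rfl⟩ := cl_exists (T := T.unop) c
    rfl
  · obtain ⟨k, v, hv, rfl⟩ := diagEl_exists (T := T) w a
    obtain ⟨k', v', hv', rfl⟩ := diagEl_exists (T := T) w a'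
    have e3 := (clF_dFst p' q' f g e w hv).symm.trans (e1.trans (clF_dFst p' q' f g e w hv'))
    have e4 := (clF_dSnd p' q' f g e w hv).symm.trans (e2.trans (clF_dSnd p' q' f g e w hv'))
    obtain rfl : k = k' := (fpHom_diagEl _ _).symm.trans ((congrArg fpHom e3).trans (fpHom_diagEl _ _))
    exact (diagEl_eq_iff _ _ _).2 (fp_hom_ext ((diagEl_eq_iff _ _ _).1 e3) ((diagEl_eq_iff _ _ _).1 e4))
  · obtain ⟨k, v₁, hv₁, rfl⟩ := diagEl_exists (T := T) (BasedFunctor.comp w (jFst p' q' f g e)) b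
    obtain ⟨k', v₂, hv₂, rfl⟩ := diagEl_exists (T := T) (BasedFunctor.comp w (jSnd p' q' f g e)) d
    obtain rfl : k = k' := (fpHom_diagEl _ hv₁).symm.trans ((congrArg ULift.down h).trans (fpHom_diagEl _ hv₂))
    let v : (w.obj (ov k)).obj.fst ⟶ (w.obj (ov k)).obj.snd := fpHomMk v₁ v₂ (by
      have hw := (w.obj (ov k)).obj.iso.hom.hom.w
      change p'.map (w.obj (ov k)).obj.iso.hom.hom.fst ≫ e.hom.toNatTrans.app (w.obj (ov k)).obj.snd =
        e.hom.toNatTrans.app (w.obj (ov k)).obj.fst ≫ q'.map (w.obj (ov k)).obj.iso.hom.hom.snd at hw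
      rw [he, he] at hw
      change p'.map (f.map v₁) ≫ _ = _ ≫ q'.map (g.map v₂)
      have c1 : f.map v₁ = (w.obj (ov k)).obj.iso.hom.hom.fst := hv₁.comp
      have c2 : g.map v₂ = (w.obj (ov k)).obj.iso.hom.hom.snd := hv₂.comp
      rw [c1, c2]
      exact hw)
    have hv : DVert w k v := ⟨hv₁.map, fp_hom_ext hv₁.comp hv₂.comp⟩
    exact ⟨diagEl w hv, clF_dFst p' q' f g e w hv, clF_dSnd p' q' f g e w hv⟩

omit k T w in
/-- The diagonal of a fibre product of two functors inherits a property of both diagonals stable under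
base change and composition. -/
theorem repByAlgSpWith_diag_fpMap {P : MorphismProperty (Sp S)}
    (hPb : ∀ ⦃X₁ Y₁ X₂ Y₂ : Sp S⦄, IsAlgSpace X₁ → IsAlgSpace Y₁ → IsAlgSpace X₂ →
      IsAlgSpace Y₂ → ∀ (a : X₁ ⟶ Y₁) (b : Y₂ ⟶ Y₁) (a' : X₂ ⟶ Y₂) (b' : X₂ ⟶ X₁),
      IsPullback b' a' a b → P a → P a')
    (hPc : ∀ ⦃X Y Z : Sp S⦄, IsAlgSpace X → IsAlgSpace Y → IsAlgSpace Z →
      ∀ (a : X ⟶ Y) (b : Y ⟶ Z), P a → P b → P (a ≫ b))
    (he : ∀ x, e.hom.toNatTrans.app x = x.obj.iso.hom)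
    (hf : AlgSt.RepByAlgSpWith P (FibCat.diag f)) (hg : AlgSt.RepByAlgSpWith P (FibCat.diag g)) :
    AlgSt.RepByAlgSpWith P (FibCat.diag (fpMap p' q' f g e)) := by
  haveI := respectsIso_onSpaces hPb
  haveI : FibCat.IsFibGrpd (FibCat.fp (BasedFunctor.comp f p') (BasedFunctor.comp g q')).p := isFibGrpd_fp
  haveI : FibCat.IsFibGrpd (FibCat.fp p' q').p := isFibGrpd_fp
  haveI : FibCat.IsFibGrpd (FibCat.fp f f).p := isFibGrpd_fp
  haveI : FibCat.IsFibGrpd (FibCat.fp g g).p := isFibGrpd_fp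
  haveI : FibCat.IsFibGrpd (FibCat.fp (fpMap p' q' f g e) (fpMap p' q' f g e)).p := isFibGrpd_fp
  haveI : (FibCat.diag (fpMap p' q' f g e)).toFunctor.Faithful := faithful_diag _
  refine repByAlgSpWith_onSpaces_iff.1 (repByAlgSpWith_iff.2 ⟨inferInstance, fun U w => ?_⟩)
  obtain ⟨hs₁, hA₁, hP₁⟩ := (repByAlgSpWith_iff.1 (repByAlgSpWith_onSpaces_iff.2 hf)).2 U
    (BasedFunctor.comp w (jFst p' q' f g e))
  obtain ⟨hs₂, hA₂, hP₂⟩ := (repByAlgSpWith_iff.1 (repByAlgSpWith_onSpaces_iff.2 hg)).2 U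
    (BasedFunctor.comp w (jSnd p' q' f g e))
  let π₁ : (⟨_, hs₁⟩ : Sp S) ⟶ (yon S).obj U :=
    ObjectProperty.homMk (fibπ (BasedFunctor.comp w (jFst p' q' f g e)) (FibCat.diag f))
  let π₂ : (⟨_, hs₂⟩ : Sp S) ⟶ (yon S).obj U :=
    ObjectProperty.homMk (fibπ (BasedFunctor.comp w (jSnd p' q' f g e)) (FibCat.diag g))
  haveI : FibCat.IsFibGrpd (FibCat.fp w (FibCat.diag (fpMap p' q' f g e))).p := isFibGrpd_fp
  let i := ((IsPullback.of_hasPullback π₁ π₂).map (sheafToPresheaf (J S) (Type (u + 1)))).isoIsPullback _ _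
    (isPullback_dFst_dSnd p' q' f g e w he)
  have hQ : IsAlgSpace (pullback π₁ π₂) :=
    isAlgSpace_pullback (IsAlgSpace.yon_obj U).diag hA₁ hA₂ π₁ π₂
  obtain ⟨hs, hA⟩ := ((isAlgSpaceP_obj_iff (pullback π₁ π₂)).2 hQ).of_iso i
  refine ⟨hs, hA, fun _ _ => ?_⟩
  let q : (⟨fib w (FibCat.diag (fpMap p' q' f g e)), hs⟩ : Sp S) ⟶ (⟨_, hs₁⟩ : Sp S) :=
    ObjectProperty.homMk (clFun (dFst p' q' f g e w))
  let r : (⟨fib w (FibCat.diag (fpMap p' q' f g e)), hs⟩ : Sp S) ⟶ (⟨_, hs₂⟩ : Sp S) :=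
    ObjectProperty.homMk (clFun (dSnd p' q' f g e w))
  have sq : IsPullback q r π₁ π₂ :=
    IsPullback.of_map_of_faithful (sheafToPresheaf (J S) (Type (u + 1))) (isPullback_dFst_dSnd p' q' f g e w he)
  have hπ : (ObjectProperty.homMk (fibπ w (FibCat.diag (fpMap p' q' f g e))) :
      (⟨fib w (FibCat.diag (fpMap p' q' f g e)), hs⟩ : Sp S) ⟶ (yon S).obj U) = q ≫ π₁ := by
    refine ObjectProperty.hom_ext _ ?_
    ext T c
    obtain ⟨m, hm, rfl⟩ := cl_exists (T := T.unop) c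
    rfl
  rw [hπ]
  exact hPc hA hA₁ (IsAlgSpace.yon_obj U) q π₁
    (hPb hA₂ (IsAlgSpace.yon_obj U) hA hA₁ π₂ π₁ q r sq.flip (hP₂ hA₂ (IsAlgSpace.yon_obj U)))
    (hP₁ hA₁ (IsAlgSpace.yon_obj U))

end Groth.Agent.FpDiagLib
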